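import Mathlib

namespace Groth.Agent.InvFldH28

open MvPolynomial

universe u v

variable {k : Type u} {L : Type v} [Field k] [Field L] [Algebra k L]

theorem isIntegral_of_fixed (G : Subgroup (L ≃ₐ[k] L)) [Finite G] (K : IntermediateField k L)
    (hK : ∀ σ ∈ G, ∀ a ∈ K, σ a ∈ K) (F' : IntermediateField k L)
    (hF : K ⊓ IntermediateField.fixedField G ≤ F') {a : L} (ha : a ∈ K) : IsIntegral F' a := by
  classical
  haveI := Fintype.ofFinite G
  let p : Polynomial L := ∏ σ : G, (Polynomial.X - Polynomial.C ((σ : L ≃ₐ[k] L) a))
  have hm : p.Monic := Polynomial.monic_prod_of_monic _ _ fun σ _ => Polynomial.monic_X_sub_C _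
  have hK' : p ∈ Polynomial.lifts (algebraMap K L) := by
    refine prod_mem fun σ _ => (Polynomial.mem_lifts _).mpr
      ⟨Polynomial.X - Polynomial.C ⟨_, hK _ σ.2 a ha⟩, ?_⟩
    rw [Polynomial.map_sub, Polynomial.map_X, Polynomial.map_C]
    rfl
  have hfix : ∀ τ : G, p.map ((τ : L ≃ₐ[k] L) : L →+* L) = p := by
    intro τ
    simp only [p, Polynomial.map_prod, Polynomial.map_sub, Polynomial.map_X, Polynomial.map_C]
    exact Fintype.prod_equiv (Equiv.mulLeft τ) _ _ fun σ => rfl
  have hl : p ∈ Polynomial.lifts (algebraMap F' L) := by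
    rw [Polynomial.lifts_iff_coeff_lifts]
    intro n
    refine ⟨⟨p.coeff n, hF ⟨?_, ?_⟩⟩, rfl⟩
    · obtain ⟨c, hc⟩ := (Polynomial.lifts_iff_coeff_lifts _).mp hK' n
      rw [← hc]
      exact c.2
    · change p.coeff n ∈ IntermediateField.fixedField G
      rw [IntermediateField.mem_fixedField_iff]
      intro τ hτ
      have := congrArg (fun q => Polynomial.coeff q n) (hfix ⟨τ, hτ⟩)
      simpa using this
  obtain ⟨q, hq, -, hqm⟩ := Polynomial.lifts_and_degree_eq_and_monic hl hm
  refine ⟨q, hqm, ?_⟩
  have : Polynomial.eval a p = 0 := by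
    rw [Polynomial.eval_prod]
    exact Finset.prod_eq_zero (Finset.mem_univ 1) (by simp)
  rw [← hq, Polynomial.eval_map] at this
  exact this

set_option maxHeartbeats 1000000 in
-- several field towers
theorem no_name [CharZero L] (G : Subgroup (L ≃ₐ[k] L)) [Finite G] (K : IntermediateField k L)
    (hK : ∀ σ ∈ G, ∀ a ∈ K, σ a ∈ K)
    (hfaith : ∀ σ ∈ G, (∀ a ∈ K, σ a = a) → σ = 1)
    {ι : Type*} [Fintype ι] (y : ι → L) (hy : AlgebraicIndependent K y)
    (hgen : IntermediateField.adjoin k ((K : Set L) ∪ Set.range y) = ⊤)
    (hlin : ∀ σ ∈ G, ∀ i, σ (y i) ∈ Submodule.span k (Set.range y)) :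
    ∃ t : ι → L, AlgebraicIndependent ↥(K ⊓ IntermediateField.fixedField G) t ∧
      IntermediateField.restrictScalars k
        (IntermediateField.adjoin ↥(K ⊓ IntermediateField.fixedField G) (Set.range t)) =
        IntermediateField.fixedField G := by
  classical
  haveI := Fintype.ofFinite G
  let U : Submodule K L := Submodule.span K (Set.range y)
  let avg : L → L := fun u => ∑ σ : G, (σ : L ≃ₐ[k] L) u
  have havg : ∀ u, avg u ∈ IntermediateField.fixedField G := by
    intro u
    rw [IntermediateField.mem_fixedField_iff]
    intro τ hτ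
    simp only [avg, map_sum]
    exact Fintype.sum_equiv (Equiv.mulLeft (⟨τ, hτ⟩ : G)) _ _ fun σ => rfl
  have hU : ∀ σ ∈ G, ∀ u ∈ U, σ u ∈ U := by
    intro σ hσ u hu
    refine Submodule.span_induction (p := fun u _ => σ u ∈ U) ?_ ?_ ?_ ?_ hu
    · rintro _ ⟨i, rfl⟩
      exact Submodule.span_subset_span k K (Set.range y) (hlin σ hσ i)
    · rw [map_zero]; exact zero_mem _
    · intro a b _ _ ha hb; rw [map_add]; exact add_mem ha hb
    · intro c a _ ha
      rw [show σ (c • a) = (⟨σ c, hK σ hσ c c.2⟩ : K) • σ a from map_mul σ (c : L) a]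
      exact U.smul_mem _ ha
  let S0 : Set L := {u | u ∈ U ∧ u ∈ IntermediateField.fixedField G}
  let χ : G → K →* L := fun σ => ((σ : L ≃ₐ[k] L) : L →* L).comp (algebraMap K L : K →* L)
  have hχ : Function.Injective χ := by
    intro σ τ h
    have h1 : ((τ⁻¹ * σ : G) : L ≃ₐ[k] L) = 1 := hfaith _ (τ⁻¹ * σ).2 fun a ha => by
      have := DFunLike.congr_fun h ⟨a, ha⟩
      simp only [Subgroup.coe_mul, Subgroup.coe_inv, AlgEquiv.mul_apply]
      rw [show (σ : L ≃ₐ[k] L) a = (τ : L ≃ₐ[k] L) a from this]
      exact AlgEquiv.symm_apply_apply _ a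
    exact (inv_mul_eq_one.mp (Subtype.ext h1 : τ⁻¹ * σ = 1)).symm
  have hspan : Submodule.span K S0 = U := by
    refine le_antisymm (Submodule.span_le.mpr fun u hu => hu.1) fun u hu => ?_
    by_contra hnot
    obtain ⟨f, hfu, hf⟩ := Submodule.exists_dual_map_eq_bot_of_notMem hnot inferInstance
    have hf0 : ∀ w ∈ S0, f w = 0 := fun w hw => by
      have : f w ∈ (Submodule.span K S0).map f := Submodule.mem_map_of_mem (Submodule.subset_span hw)
      rw [hf] at this
      exact this
    have hzero : ∑ σ : G, algebraMap K L (f ((σ : L ≃ₐ[k] L) u)) • (fun a => χ σ a) = 0 := by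
      funext a
      simp only [Finset.sum_apply, Pi.smul_apply, Pi.zero_apply, smul_eq_mul]
      have hw : avg (a • u) ∈ S0 :=
        ⟨sum_mem fun σ _ => hU _ σ.2 _ (U.smul_mem a hu), havg _⟩
      have h1 : avg (a • u) = ∑ σ : G, (⟨(σ : L ≃ₐ[k] L) a, hK _ σ.2 a a.2⟩ : K) • (σ : L ≃ₐ[k] L) u :=
        Finset.sum_congr rfl fun σ _ => map_mul _ (a : L) u
      have h2 := hf0 _ hw
      rw [h1, map_sum] at h2
      simp only [map_smul, smul_eq_mul] at h2
      have h3 := congrArg (algebraMap K L) h2
      rw [map_sum, map_zero] at h3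
      rw [← h3]
      refine Finset.sum_congr rfl fun σ _ => ?_
      rw [map_mul, mul_comm]
      rfl
    have hli := Fintype.linearIndependent_iff.mp
      ((linearIndependent_monoidHom K L).comp χ hχ) _ hzero 1
    rw [map_eq_zero_iff _ (algebraMap K L).injective] at hli
    exact hfu hli
  have hcard : Module.finrank K (Submodule.span K S0) = Fintype.card ι := by
    rw [hspan]; exact finrank_span_eq_card hy.linearIndependent
  haveI : Module.Finite K (Submodule.span K S0) := by
    rw [hspan]; exact Module.Finite.span_of_finite K (Set.finite_range y)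
  obtain ⟨f, hfS, hfspan, hfli⟩ := Submodule.exists_fun_fin_finrank_span_eq K S0
  let e : ι ≃ Fin (Module.finrank K (Submodule.span K S0)) :=
    (Fintype.equivFin ι).trans (finCongr hcard.symm)
  let t : ι → L := f ∘ e
  have hrange : Set.range t = Set.range f := e.surjective.range_comp f
  have htU : Submodule.span K (Set.range t) = U := by rw [hrange, hfspan, hspan]
  have htS : ∀ i, t i ∈ U ∧ t i ∈ IntermediateField.fixedField G := fun i => hfS _
  have htli : LinearIndependent K t := hfli.comp _ e.injective
  -- mutual expressions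
  choose A hA using fun j => (Submodule.mem_span_range_iff_exists_fun K).mp (htS j).1
  choose B hB using fun l => (Submodule.mem_span_range_iff_exists_fun K).mp
    (show y l ∈ Submodule.span K (Set.range t) from htU ▸ Submodule.subset_span ⟨l, rfl⟩)
  let φA : MvPolynomial ι K →ₐ[K] MvPolynomial ι K := aeval fun j => ∑ l, C (A j l) * X l
  let φB : MvPolynomial ι K →ₐ[K] MvPolynomial ι K := aeval fun l => ∑ j, C (B l j) * X j
  have htA : (aeval t : MvPolynomial ι K →ₐ[K] L) = (aeval y).comp φA := by
    ext j
    simp [φA, ← hA, Algebra.smul_def]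
  have hBA : φB.comp φA = AlgHom.id K _ := by
    ext j : 1
    have hsum : ∀ j', ∑ l, A j l * B l j' = if j = j' then 1 else 0 := by
      have h : ∑ j', (∑ l, A j l * B l j') • t j' = ∑ j', (if j = j' then (1 : K) else 0) • t j' := by
        simp only [Finset.sum_smul, mul_smul, ite_smul, one_smul, zero_smul, Finset.sum_ite_eq,
          Finset.mem_univ, if_true]
        rw [Finset.sum_comm]
        simp_rw [← Finset.smul_sum, hB, hA]
      intro j'
      have := Fintype.linearIndependent_iff.mp htli
        (fun j' => (∑ l, A j l * B l j') - if j = j' then 1 else 0)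
        (by simp only [sub_smul, Finset.sum_sub_distrib]; rw [h, sub_self]) j'
      exact sub_eq_zero.mp this
    simp only [AlgHom.comp_apply, φA, φB, aeval_X, map_sum, map_mul, AlgHom.id_apply]
    simp only [aeval_C, MvPolynomial.algebraMap_eq, Finset.mul_sum, ← mul_assoc, ← C_mul]
    rw [Finset.sum_comm]
    simp only [← Finset.sum_mul, ← map_sum, hsum]
    simp [apply_ite C, ite_mul]
  have hφA : Function.Injective φA := fun a b h => by
    have ha := DFunLike.congr_fun hBA a
    have hb := DFunLike.congr_fun hBA b
    simp only [AlgHom.comp_apply, AlgHom.id_apply] at ha hb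
    rw [← ha, h, hb]
  have htK : AlgebraicIndependent K t := by
    change Function.Injective (aeval t)
    rw [htA, AlgHom.coe_comp]
    exact Function.Injective.comp hy hφA
  refine ⟨t, ?_, ?_⟩
  · exact htK.of_ringHom_of_comp_eq (IntermediateField.inclusion (inf_le_left (a := K) (b := IntermediateField.fixedField G))) (RingHom.id L)
      (IntermediateField.inclusion_injective _) rfl
  · set F := K ⊓ IntermediateField.fixedField G with hFdef
    set F' := IntermediateField.restrictScalars k (IntermediateField.adjoin F (Set.range t)) with hF'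
    have hFF' : F ≤ F' := fun a ha => by
      rw [hF', IntermediateField.mem_restrictScalars]
      exact IntermediateField.algebraMap_mem _ (⟨a, ha⟩ : F)
    have htF' : ∀ i, t i ∈ F' := fun i => by
      rw [hF', IntermediateField.mem_restrictScalars]
      exact IntermediateField.subset_adjoin F _ ⟨i, rfl⟩
    have hF'fix : F' ≤ IntermediateField.fixedField G := by
      have hle : F ≤ IntermediateField.fixedField G := inf_le_right
      have h : IntermediateField.adjoin F (Set.range t) ≤ IntermediateField.extendScalars hle :=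
        IntermediateField.adjoin_le_iff.mpr (by rintro _ ⟨i, rfl⟩; exact (htS i).2)
      exact fun z hz => h hz
    refine le_antisymm hF'fix ?_
    · intro z hz
      let M := IntermediateField.adjoin F' (K : Set L)
      have hM : M = ⊤ := by
        refine eq_top_iff.mpr fun x _ => ?_
        have hle : IntermediateField.adjoin k ((K : Set L) ∪ Set.range y) ≤ M.restrictScalars k := by
          refine IntermediateField.adjoin_le_iff.mpr ?_
          rintro w (hw | ⟨l, rfl⟩)
          · exact IntermediateField.subset_adjoin F' _ hw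
          · change y l ∈ M
            rw [← hB l]
            refine sum_mem fun j _ => ?_
            exact mul_mem (IntermediateField.subset_adjoin F' _ (B l j).2)
              (IntermediateField.algebraMap_mem M (⟨t j, htF' j⟩ : F'))
        exact hle (hgen ▸ IntermediateField.mem_top)
      have hzA : z ∈ Algebra.adjoin F' (K : Set L) := by
        rw [← IntermediateField.adjoin_toSubalgebra_of_isAlgebraic
          (fun a ha => (isIntegral_of_fixed G K hK F' hFF' ha).isAlgebraic)]
        change z ∈ M
        rw [hM]
        exact IntermediateField.mem_top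
      have hclos : (Submonoid.closure (K : Set L) : Set L) = (K : Set L) :=
        congrArg SetLike.coe (Submonoid.closure_eq K.toSubalgebra.toSubsemiring.toSubmonoid)
      have hzs : z ∈ Submodule.span F' (K : Set L) := by
        have h := (Subalgebra.mem_toSubmodule _).mpr hzA
        rwa [Algebra.adjoin_eq_span, hclos] at h
      have hfixF' : ∀ c ∈ F', ∀ σ : G, (σ : L ≃ₐ[k] L) c = c := by
        intro c hc σ
        have : c ∈ IntermediateField.fixedField G := hF'fix hc
        exact (IntermediateField.mem_fixedField_iff G c).mp this σ σ.2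
      have havgz : avg z ∈ F' := by
        refine Submodule.span_induction (p := fun w _ => avg w ∈ F') ?_ ?_ ?_ ?_ hzs
        · intro a ha
          exact hFF' ⟨sum_mem fun σ _ => hK _ σ.2 a ha, havg a⟩
        · simp only [avg, map_zero, Finset.sum_const_zero]; exact zero_mem _
        · intro a b _ _ ha hb
          simp only [avg, map_add, Finset.sum_add_distrib]
          exact add_mem ha hb
        · intro c a _ ha
          have : avg (c • a) = (c : L) * avg a := by
            simp only [avg, Finset.mul_sum]
            refine Finset.sum_congr rfl fun σ _ => ?_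
            rw [show c • a = (c : L) * a from rfl, map_mul, hfixF' c c.2 σ]
          rw [this]
          exact mul_mem c.2 ha
      have hz2 : avg z = (Fintype.card G : L) * z := by
        simp only [avg]
        rw [Finset.sum_congr rfl fun (σ : G) _ => (IntermediateField.mem_fixedField_iff G z).mp hz (σ : L ≃ₐ[k] L) σ.2]
        simp
      have hcard0 : (Fintype.card G : L) ≠ 0 := Nat.cast_ne_zero.mpr Fintype.card_ne_zero
      have : z = (Fintype.card G : L)⁻¹ * avg z := by rw [hz2, inv_mul_cancel_left₀ hcard0]
      rw [this]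
      exact mul_mem (inv_mem (natCast_mem F' _)) havgz

end Groth.Agent.InvFldH28
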