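import Groth.Prelude.Def_W4c2brnrinvarInvFld
import Groth.Agent.Lib.InvFldH28.Core

namespace Groth.Agent.InvFldH28

open InvFld MvPolynomial

universe u v w

variable {k : Type u} [Field k]

theorem X_eq {σ : Type v} (i : σ) :
    (InvFld.X i : Fld σ k) = algebraMap (MvPolynomial σ k) (Fld σ k) (MvPolynomial.X i) := rfl

/-- The variables generate the rational function field. -/
theorem adjoin_X_eq_top (σ : Type v) :
    IntermediateField.adjoin k (Set.range fun i : σ => (InvFld.X i : Fld σ k)) = ⊤ := by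
  set M := IntermediateField.adjoin k (Set.range fun i : σ => (InvFld.X i : Fld σ k))
  have hp : ∀ p : MvPolynomial σ k, algebraMap _ (Fld σ k) p ∈ M := by
    intro p
    induction p using MvPolynomial.induction_on with
    | C a =>
      rw [← MvPolynomial.algebraMap_eq, ← IsScalarTower.algebraMap_apply]
      exact M.algebraMap_mem a
    | add p q hp hq => rw [map_add]; exact add_mem hp hq
    | mul_X p i hp => rw [map_mul]; exact mul_mem hp (IntermediateField.subset_adjoin k _ ⟨i, rfl⟩)
  refine eq_top_iff.mpr fun z _ => ?_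
  obtain ⟨a, b, -, rfl⟩ := IsFractionRing.div_surjective (MvPolynomial σ k) z
  exact div_mem (hp a) (hp b)

theorem algebraicIndependent_X (σ : Type v) :
    AlgebraicIndependent k (fun i : σ => (InvFld.X i : Fld σ k)) :=
  (MvPolynomial.algebraicIndependent_X σ k).map' (f := IsScalarTower.toAlgHom k _ (Fld σ k))
    (IsFractionRing.injective _ _)

theorem algebraicIndependent_over {α ι σ : Type v} (inl : α → σ) (inr : ι → σ)
    (h : Function.Injective (Sum.elim inr inl)) :
    AlgebraicIndependent ↥(IntermediateField.adjoin k (Set.range fun j => (InvFld.X (inl j) : Fld σ k)))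
      (fun i => (InvFld.X (inr i) : Fld σ k)) := by
  rw [IntermediateField.algebraicIndependent_adjoin_iff]
  have h1 := (algebraicIndependent_X (k := k) σ).comp _ h
  have h2 : (fun i : σ => (InvFld.X i : Fld σ k)) ∘ Sum.elim inr inl =
      Sum.elim (fun i => InvFld.X (inr i)) (fun j => InvFld.X (inl j)) := by
    funext x; cases x <;> rfl
  rw [h2] at h1
  exact (AlgebraicIndependent.sumElim_iff.mp h1).2

/-- No-name lemma in coordinates. -/
theorem no_name_coord [CharZero k] {α ι σ : Type v} [Fintype ι] (inl : α → σ) (inr : ι → σ)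
    (h : Function.Bijective (Sum.elim inr inl))
    (G : Subgroup (Fld σ k ≃ₐ[k] Fld σ k)) [Finite G]
    (hx : ∀ s ∈ G, ∀ i, s (InvFld.X (inl i)) ∈ Submodule.span k (Set.range fun j => (InvFld.X (inl j) : Fld σ k)))
    (hy : ∀ s ∈ G, ∀ i, s (InvFld.X (inr i)) ∈ Submodule.span k (Set.range fun j => (InvFld.X (inr j) : Fld σ k)))
    (hfaith : ∀ s ∈ G, (∀ i, s (InvFld.X (inl i)) = InvFld.X (inl i)) → s = 1) :
    ∃ t : ι → Fld σ k,
      AlgebraicIndependent (↥(IntermediateField.adjoin k (Set.range fun j => (InvFld.X (inl j) : Fld σ k)) ⊓ IntermediateField.fixedField G)) t ∧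
      IntermediateField.restrictScalars k (IntermediateField.adjoin (↥(IntermediateField.adjoin k (Set.range fun j => (InvFld.X (inl j) : Fld σ k)) ⊓ IntermediateField.fixedField G)) (Set.range t)) =
        IntermediateField.fixedField G := by
  haveI : CharZero (Fld σ k) := charZero_of_injective_algebraMap (algebraMap k (Fld σ k)).injective
  refine no_name G _ ?_ ?_ _ (algebraicIndependent_over inl inr h.1) ?_ hy
  · intro s hs a ha
    have : IntermediateField.adjoin k (Set.range fun j => (InvFld.X (inl j) : Fld σ k)) ≤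
        (IntermediateField.adjoin k (Set.range fun j => (InvFld.X (inl j) : Fld σ k))).comap (s : Fld σ k →ₐ[k] Fld σ k) := by
      refine IntermediateField.adjoin_le_iff.mpr ?_
      rintro _ ⟨i, rfl⟩
      exact Submodule.span_le (p := (IntermediateField.adjoin k (Set.range fun j => (InvFld.X (inl j) : Fld σ k))).toSubalgebra.toSubmodule).mpr
        (IntermediateField.subset_adjoin k _) (hx s hs i)
    exact this ha
  · intro s hs hfix
    exact hfaith s hs fun i => hfix _ (IntermediateField.subset_adjoin k _ ⟨i, rfl⟩)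
  · refine eq_top_iff.mpr ?_
    rw [← adjoin_X_eq_top σ]
    refine IntermediateField.adjoin_le_iff.mpr ?_
    rintro _ ⟨i, rfl⟩
    obtain ⟨x, rfl⟩ := h.2 i
    rcases x with a | b
    · exact IntermediateField.subset_adjoin k _ (Or.inr ⟨a, rfl⟩)
    · exact IntermediateField.subset_adjoin k _ (Or.inl (IntermediateField.subset_adjoin k _ ⟨b, rfl⟩))

section Action

variable {α : Type v} (G : Subgroup (Fld α k ≃ₐ[k] Fld α k))
  (hG : ∀ s ∈ G, ∀ i, s (InvFld.X i) ∈ Submodule.span k (Set.range fun j => (InvFld.X j : Fld α k)))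

include hG in
theorem exists_poly : ∃ Φ : G → (MvPolynomial α k →ₐ[k] MvPolynomial α k),
    (∀ g p, algebraMap _ (Fld α k) (Φ g p) = (g : Fld α k ≃ₐ[k] Fld α k) (algebraMap _ _ p)) ∧
    (∀ g h p, Φ (g * h) p = Φ g (Φ h p)) ∧ (∀ p, Φ 1 p = p) := by
  have hex : ∀ (g : G) i, ∃ p : MvPolynomial α k, algebraMap _ (Fld α k) p = (g : Fld α k ≃ₐ[k] Fld α k) (InvFld.X i) := by
    intro g i
    refine Submodule.span_induction (p := fun z _ => ∃ p : MvPolynomial α k, algebraMap _ (Fld α k) p = z) ?_ ?_ ?_ ?_ (hG _ g.2 i)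
    · rintro _ ⟨j, rfl⟩; exact ⟨_, rfl⟩
    · exact ⟨0, map_zero _⟩
    · rintro a b _ _ ⟨p, rfl⟩ ⟨q, rfl⟩; exact ⟨p + q, map_add _ _ _⟩
    · rintro c a _ ⟨p, rfl⟩
      exact ⟨C c * p, by rw [map_mul, ← MvPolynomial.algebraMap_eq, ← IsScalarTower.algebraMap_apply, Algebra.smul_def]⟩
  choose P hP using hex
  have h1 : ∀ (g : G) (p : MvPolynomial α k), algebraMap _ (Fld α k) (aeval (P g) p) = (g : Fld α k ≃ₐ[k] Fld α k) (algebraMap _ _ p) := by
    intro g p
    have : (IsScalarTower.toAlgHom k (MvPolynomial α k) (Fld α k)).comp (aeval (P g)) =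
        ((g : Fld α k ≃ₐ[k] Fld α k) : Fld α k →ₐ[k] Fld α k).comp (IsScalarTower.toAlgHom k (MvPolynomial α k) (Fld α k)) := by
      ext i
      simpa using hP g i
    exact DFunLike.congr_fun this p
  refine ⟨fun g => aeval (P g), h1, fun g h p => ?_, fun p => ?_⟩
  · exact IsFractionRing.injective (MvPolynomial α k) (Fld α k) (by rw [h1, h1, h1]; rfl)
  · exact IsFractionRing.injective (MvPolynomial α k) (Fld α k) (by rw [h1]; rfl)

end Action

/-- The embedding of rational function fields induced by an injection of the variables. -/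
noncomputable def incl {α σ : Type v} (f : α → σ) (hf : Function.Injective f) : Fld α k →ₐ[k] Fld σ k :=
  IsFractionRing.liftAlgHom (g := (IsScalarTower.toAlgHom k (MvPolynomial σ k) (Fld σ k)).comp (rename f))
    ((IsFractionRing.injective (MvPolynomial σ k) (Fld σ k)).comp (rename_injective f hf))

theorem incl_algebraMap {α σ : Type v} (f : α → σ) (hf : Function.Injective f) (p : MvPolynomial α k) :
    incl f hf (algebraMap _ _ p) = algebraMap _ (Fld σ k) (rename f p) :=
  IsLocalization.lift_eq _ p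

theorem incl_X {α σ : Type v} (f : α → σ) (hf : Function.Injective f) (i : α) :
    incl f hf (InvFld.X i : Fld α k) = InvFld.X (f i) := by
  rw [X_eq, X_eq, incl_algebraMap, rename_X]

theorem incl_fieldRange {α σ : Type v} (f : α → σ) (hf : Function.Injective f) :
    (incl (k := k) f hf).fieldRange = IntermediateField.adjoin k (Set.range fun j => (InvFld.X (f j) : Fld σ k)) := by
  rw [AlgHom.fieldRange_eq_map, ← adjoin_X_eq_top α, IntermediateField.adjoin_map, ← Set.range_comp]
  congr 2
  funext j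
  exact incl_X f hf j

theorem algEquiv_of_indep {L : Type v} [Field L] [Algebra k L] (F : IntermediateField k L) {ι : Type w}
    (t : ι → L) (ht : AlgebraicIndependent F t) :
    Nonempty (Fld ι F ≃ₐ[k] IntermediateField.restrictScalars k (IntermediateField.adjoin F (Set.range t))) :=
  ⟨ht.aevalEquivField.restrictScalars k⟩

/-- Changing the coefficient field along an isomorphism. -/
theorem fld_congr {F F' : Type v} [Field F] [Field F'] [Algebra k F] [Algebra k F'] (e : F ≃ₐ[k] F') (ι : Type w) :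
    Nonempty (Fld ι F ≃ₐ[k] Fld ι F') :=
  ⟨IsFractionRing.algEquivOfAlgEquiv (MvPolynomial.mapAlgEquiv ι e)⟩

set_option maxHeartbeats 1000000 in
-- several function fields
/-- Fields of invariants of two linear representations of the same group, one faithful, inside the
field of the direct sum. -/
theorem exists_stable_equiv [CharZero k] {α β : Type v} [Fintype α] [Fintype β]
    (G : Subgroup (Fld α k ≃ₐ[k] Fld α k)) [Finite G] (H : Subgroup (Fld β k ≃ₐ[k] Fld β k)) [Finite H] (e : G ≃* H)
    (hG : ∀ s ∈ G, ∀ i, s (InvFld.X i) ∈ Submodule.span k (Set.range fun j => (InvFld.X j : Fld α k)))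
    (hH : ∀ s ∈ H, ∀ i, s (InvFld.X i) ∈ Submodule.span k (Set.range fun j => (InvFld.X j : Fld β k))) :
    Nonempty (Fld β (IntermediateField.fixedField G) ≃ₐ[k] Fld α (IntermediateField.fixedField H)) := by
  classical
  obtain ⟨Φ, hΦ, hΦm, hΦ1⟩ := exists_poly G hG
  obtain ⟨Ψ, hΨ, hΨm, hΨ1⟩ := exists_poly H hH
  let T : G → (MvPolynomial (α ⊕ β) k →ₐ[k] MvPolynomial (α ⊕ β) k) := fun g =>
    aeval (Sum.elim (fun i => rename Sum.inl (Φ g (MvPolynomial.X i))) (fun j => rename Sum.inr (Ψ (e g) (MvPolynomial.X j))))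
  have hTl : ∀ g p, T g (rename Sum.inl p) = rename Sum.inl (Φ g p) := by
    intro g p
    have : (T g).comp (rename Sum.inl) = (rename Sum.inl).comp (Φ g) := by ext i; simp [T]
    exact DFunLike.congr_fun this p
  have hTr : ∀ g p, T g (rename Sum.inr p) = rename Sum.inr (Ψ (e g) p) := by
    intro g p
    have : (T g).comp (rename Sum.inr) = (rename Sum.inr).comp (Ψ (e g)) := by ext i; simp [T]
    exact DFunLike.congr_fun this p
  have hTm : ∀ g h, (T g).comp (T h) = T (g * h) := by
    intro g h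
    refine MvPolynomial.algHom_ext fun x => ?_
    rcases x with i | j
    · have e1 : (MvPolynomial.X (Sum.inl i) : MvPolynomial (α ⊕ β) k) = rename Sum.inl (MvPolynomial.X i) := (rename_X _ _).symm
      rw [AlgHom.comp_apply, e1, hTl, hTl, hTl, hΦm]
    · have e1 : (MvPolynomial.X (Sum.inr j) : MvPolynomial (α ⊕ β) k) = rename Sum.inr (MvPolynomial.X j) := (rename_X _ _).symm
      rw [AlgHom.comp_apply, e1, hTr, hTr, hTr, map_mul, hΨm]
  have hT1 : T 1 = AlgHom.id k _ := by
    refine MvPolynomial.algHom_ext fun x => ?_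
    rcases x with i | j <;> simp [T, hΦ1, hΨ1]
  let TE : G → (MvPolynomial (α ⊕ β) k ≃ₐ[k] MvPolynomial (α ⊕ β) k) := fun g =>
    AlgEquiv.ofAlgHom (T g) (T g⁻¹) (by rw [hTm, mul_inv_cancel, hT1]) (by rw [hTm, inv_mul_cancel, hT1])
  let Θ0 : G → (Fld (α ⊕ β) k ≃ₐ[k] Fld (α ⊕ β) k) := fun g => IsFractionRing.algEquivOfAlgEquiv (TE g)
  have hΘ : ∀ g p, Θ0 g (algebraMap _ _ p) = algebraMap _ _ (T g p) := fun g p =>
    IsFractionRing.algEquivOfAlgEquiv_algebraMap (TE g) p
  have hext : ∀ (f f' : Fld (α ⊕ β) k ≃ₐ[k] Fld (α ⊕ β) k),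
      (∀ p : MvPolynomial (α ⊕ β) k, f (algebraMap _ _ p) = f' (algebraMap _ _ p)) → f = f' := by
    intro f f' h
    ext z
    obtain ⟨a, b, -, rfl⟩ := IsFractionRing.div_surjective (MvPolynomial (α ⊕ β) k) z
    rw [map_div₀, map_div₀, h, h]
  let Θ : G →* (Fld (α ⊕ β) k ≃ₐ[k] Fld (α ⊕ β) k) := MonoidHom.mk' Θ0 fun g h => hext _ _ fun p => by
    rw [AlgEquiv.mul_apply, hΘ, hΘ, hΘ, ← AlgHom.comp_apply, hTm]
  let il := incl (k := k) (Sum.inl : α → α ⊕ β) Sum.inl_injective
  let ir := incl (k := k) (Sum.inr : β → α ⊕ β) Sum.inr_injective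
  have hil : ∀ g z, Θ g (il z) = il ((g : Fld α k ≃ₐ[k] Fld α k) z) := by
    intro g z
    obtain ⟨a, b, -, rfl⟩ := IsFractionRing.div_surjective (MvPolynomial α k) z
    simp only [map_div₀, il, incl_algebraMap]
    rw [← hΦ, ← hΦ, incl_algebraMap, incl_algebraMap, ← hTl, ← hTl]
    congr 1 <;> exact hΘ g _
  have hir : ∀ g z, Θ g (ir z) = ir ((e g : Fld β k ≃ₐ[k] Fld β k) z) := by
    intro g z
    obtain ⟨a, b, -, rfl⟩ := IsFractionRing.div_surjective (MvPolynomial β k) z
    simp only [map_div₀, ir, incl_algebraMap]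
    rw [← hΨ, ← hΨ, incl_algebraMap, incl_algebraMap, ← hTr, ← hTr]
    congr 1 <;> exact hΘ g _
  let GG := Θ.range
  haveI : Finite GG := Finite.of_surjective Θ.rangeRestrict Θ.rangeRestrict_surjective
  have hxl : ∀ s ∈ GG, ∀ i : α, s (InvFld.X (Sum.inl i)) ∈
      Submodule.span k (Set.range fun j : α => (InvFld.X (Sum.inl j) : Fld (α ⊕ β) k)) := by
    rintro _ ⟨g, rfl⟩ i
    rw [← incl_X Sum.inl Sum.inl_injective, hil]
    have := Submodule.mem_map_of_mem (f := il.toLinearMap) (hG _ g.2 i)
    rw [Submodule.map_span, ← Set.range_comp] at this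
    simp only [Function.comp_def, AlgHom.toLinearMap_apply, il, incl_X] at this
    exact this
  have hxr : ∀ s ∈ GG, ∀ i : β, s (InvFld.X (Sum.inr i)) ∈
      Submodule.span k (Set.range fun j : β => (InvFld.X (Sum.inr j) : Fld (α ⊕ β) k)) := by
    rintro _ ⟨g, rfl⟩ i
    rw [← incl_X Sum.inr Sum.inr_injective, hir]
    have := Submodule.mem_map_of_mem (f := ir.toLinearMap) (hH _ (e g).2 i)
    rw [Submodule.map_span, ← Set.range_comp] at this
    simp only [Function.comp_def, AlgHom.toLinearMap_apply, ir, incl_X] at this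
    exact this
  have hext1 : ∀ {γ : Type v} (f : Fld γ k ≃ₐ[k] Fld γ k), (∀ i, f (InvFld.X i) = InvFld.X i) → f = 1 := by
    intro γ f hf
    have hle : IntermediateField.adjoin k (Set.range fun i : γ => (InvFld.X i : Fld γ k)) ≤
        IntermediateField.fixedField (Subgroup.zpowers f) := by
      refine IntermediateField.adjoin_le_iff.mpr ?_
      rintro _ ⟨i, rfl⟩
      rw [SetLike.mem_coe, IntermediateField.mem_fixedField_iff]
      intro g hg
      have : Subgroup.zpowers f ≤ MulAction.stabilizer (Fld γ k ≃ₐ[k] Fld γ k) (InvFld.X i : Fld γ k) :=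
        Subgroup.zpowers_le.mpr (hf i)
      exact this hg
    ext z
    exact (IntermediateField.mem_fixedField_iff _ _).mp (hle (adjoin_X_eq_top (k := k) γ ▸ IntermediateField.mem_top)) f (Subgroup.mem_zpowers f)
  have hfl : ∀ s ∈ GG, (∀ i : α, s (InvFld.X (Sum.inl i)) = InvFld.X (Sum.inl i)) → s = 1 := by
    rintro _ ⟨g, rfl⟩ hfix
    have : g = 1 := by
      refine Subtype.ext (hext1 _ fun i => il.injective ?_)
      change il _ = il _
      rw [← hil]
      simp only [il, incl_X]
      exact hfix i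
    rw [this, map_one]
  have hfr : ∀ s ∈ GG, (∀ i : β, s (InvFld.X (Sum.inr i)) = InvFld.X (Sum.inr i)) → s = 1 := by
    rintro _ ⟨g, rfl⟩ hfix
    have : e g = 1 := by
      refine Subtype.ext (hext1 _ fun i => ir.injective ?_)
      change ir _ = ir _
      rw [← hir]
      simp only [ir, incl_X]
      exact hfix i
    rw [(MulEquiv.map_eq_one_iff e).mp this, map_one]
  have hb : Function.Bijective (Sum.elim (Sum.inr : β → α ⊕ β) Sum.inl) :=
    (Equiv.sumComm β α).bijective
  obtain ⟨t, ht1, ht2⟩ := no_name_coord (Sum.inl : α → α ⊕ β) Sum.inr hb GG hxl hxr hfl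
  obtain ⟨s, hs1, hs2⟩ := no_name_coord (Sum.inr : β → α ⊕ β) Sum.inl
    (by rw [Sum.elim_inl_inr]; exact Function.bijective_id) GG hxr hxl hfr
  have hFl : IntermediateField.map il (IntermediateField.fixedField G) =
      IntermediateField.adjoin k (Set.range fun j : α => (InvFld.X (Sum.inl j) : Fld (α ⊕ β) k)) ⊓
        IntermediateField.fixedField GG := by
    rw [← incl_fieldRange Sum.inl Sum.inl_injective]
    ext z
    constructor
    · rintro ⟨w, hw, rfl⟩
      refine ⟨⟨w, rfl⟩, (IntermediateField.mem_fixedField_iff _ _).mpr ?_⟩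
      rintro _ ⟨g, rfl⟩
      change Θ g (il w) = il w
      rw [hil, (IntermediateField.mem_fixedField_iff G w).mp hw g g.2]
    · rintro ⟨⟨w, rfl⟩, hz⟩
      refine ⟨w, (IntermediateField.mem_fixedField_iff G w).mpr fun g hg => il.injective ?_, rfl⟩
      change il _ = il _
      rw [← hil ⟨g, hg⟩]
      exact (IntermediateField.mem_fixedField_iff _ _).mp hz _ ⟨⟨g, hg⟩, rfl⟩
  have hFr : IntermediateField.map ir (IntermediateField.fixedField H) =
      IntermediateField.adjoin k (Set.range fun j : β => (InvFld.X (Sum.inr j) : Fld (α ⊕ β) k)) ⊓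
        IntermediateField.fixedField GG := by
    rw [← incl_fieldRange Sum.inr Sum.inr_injective]
    ext z
    constructor
    · rintro ⟨w, hw, rfl⟩
      refine ⟨⟨w, rfl⟩, (IntermediateField.mem_fixedField_iff _ _).mpr ?_⟩
      rintro _ ⟨g, rfl⟩
      change Θ g (ir w) = ir w
      rw [hir, (IntermediateField.mem_fixedField_iff H w).mp hw _ (e g).2]
    · rintro ⟨⟨w, rfl⟩, hz⟩
      refine ⟨w, (IntermediateField.mem_fixedField_iff H w).mpr fun g hg => ir.injective ?_, rfl⟩
      change ir _ = ir _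
      have h := hir (e.symm ⟨g, hg⟩) w
      rw [e.apply_symm_apply] at h
      rw [← h]
      exact (IntermediateField.mem_fixedField_iff _ _).mp hz _ ⟨_, rfl⟩
  obtain ⟨a1⟩ := fld_congr ((IntermediateField.fixedField G).equivMap il |>.trans (IntermediateField.equivOfEq hFl)) β
  obtain ⟨a2⟩ := algEquiv_of_indep _ t ht1
  obtain ⟨b1⟩ := fld_congr ((IntermediateField.fixedField H).equivMap ir |>.trans (IntermediateField.equivOfEq hFr)) α
  obtain ⟨b2⟩ := algEquiv_of_indep _ s hs1
  exact ⟨a1.trans (a2.trans ((IntermediateField.equivOfEq (ht2.trans hs2.symm)).trans (b2.symm.trans b1.symm)))⟩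

end Groth.Agent.InvFldH28
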